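import Groth.Agent.EtVanish.Split
import Groth.Agent.EtPtsLib.InitialNbhd
import Groth.Agent.EtPtsLib.Opens
import Groth.Agent.BigSiteLib.Basic
import Groth.Agent.S6634
import Groth.Agent.S0101

/-!
# Etale cohomology of strictly henselian rings
-/

set_option autoImplicit false
set_option backward.isDefEq.respectTransparency false
set_option backward.isDefEq.respectTransparency.types false
universe u

namespace Groth.Agent.EtVanish

open CategoryTheory Limits AlgebraicGeometry Opposite IsLocalRing

/-- Coverings of a strictly henselian spectrum split. -/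
theorem split_of_strictlyHenselian (R : Type u) [CommRing R] [HenselianLocalRing R] [IsSepClosed (ResidueField R)]
    (S : Sieve (EtCoh.top (Spec (CommRingCat.of R))))
    (hS : S ∈ (Spec (CommRingCat.of R)).smallEtaleTopology (EtCoh.top (Spec (CommRingCat.of R)))) :
    S.arrows (𝟙 _) := by
  obtain ⟨V, g, v, hg, hv⟩ := EtPtsLib.exists_mem_of_covering hS (closedPoint R)
  haveI : AlgebraicGeometry.Etale V.hom := V.prop
  have hx : V.hom v = closedPoint R := by
    rw [show V.hom = g.left ≫ 𝟙 _ from (Over.w g.hom).symm, Category.comp_id]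
    exact hv
  obtain ⟨a, ha, -⟩ := Groth.Agent.Hensel.exists_section_of_etale V.hom v hx
  let s : EtCoh.top (Spec (CommRingCat.of R)) ⟶ V := MorphismProperty.Over.homMk a ha
  rw [show 𝟙 (EtCoh.top (Spec (CommRingCat.of R))) = s ≫ g from (EtCore.topIsTerminal _).hom_ext _ _]
  exact S.downward_closed hg s

/-- Higher etale cohomology of a strictly henselian spectrum vanishes. -/
theorem subsingleton_H_strictlyHenselian (R : Type u) [CommRing R] [HenselianLocalRing R]
    [IsSepClosed (ResidueField R)] (F : EtCoh.Ab (Spec (CommRingCat.of R))) (n : ℕ) :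
    Subsingleton (EtCoh.H (Spec (CommRingCat.of R)) F (n + 1)) :=
  subsingleton_H_of_split (EtCore.topIsTerminal _) (split_of_strictlyHenselian R) n F

/-- Direct images along finite morphisms preserve cohomology. -/
theorem nonempty_H_push_equiv {X Y : Scheme.{u}} (f : X ⟶ Y) [IsIntegralHom f] (F : EtCoh.Ab X) (n : ℕ) :
    Nonempty (EtCoh.H Y ((EtCoh.push f).obj F) n ≃+ EtCoh.H X F n) := by
  haveI : PreservesFiniteColimits (EtCoh.push f) := by
    haveI : (EtCoh.push f).PreservesEpimorphisms := Groth.Agent.S6634.result f
    haveI : (EtCoh.push f).IsRightAdjoint := (EtCoh.pullPushAdj f).isRightAdjoint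
    haveI : (EtCoh.push f).PreservesHomology := Functor.preservesHomology_of_preservesEpis_and_kernels _
    exact Functor.preservesFiniteColimits_of_preservesHomology _
  haveI : PreservesFiniteLimits (EtCoh.pull f) := Groth.Agent.S0101.result f
  haveI : (EtCoh.pull f).PreservesMonomorphisms := preservesMonomorphisms_of_preservesLimitsOfShape _
  exact BigSiteLib.nonempty_H_pushforward_equiv (EtCoh.bc f) (EtCoh.pullPushAdj f) (EtCore.topIsTerminal Y)
    (EtCore.topIsTerminal X)
    (IsTerminal.uniqueUpToIso (IsTerminal.isTerminalObj (EtCoh.bc f) _ (EtCore.topIsTerminal Y)) (EtCore.topIsTerminal X))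
    F n

end Groth.Agent.EtVanish
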