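import Groth.Agent.EtVanish.ArtinSchreierAlg
import Groth.Agent.FppfCmp.Exact
import Groth.Agent.EtPtsLib.Conditions
import Groth.Prelude.Def_W4c5etcohweilstudentAS

/-!
# The Artin–Schreier sequence
-/

set_option autoImplicit false
set_option backward.isDefEq.respectTransparency false
set_option backward.isDefEq.respectTransparency.types false
set_option maxHeartbeats 800000
universe u

namespace Groth.Agent.EtVanish

open CategoryTheory Limits AlgebraicGeometry Opposite EtPtsLib

variable {X : Scheme.{u}} (p : ℕ) (hp : p.Prime) (h0 : (p : Γ(X, ⊤)) = 0)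

local notation "AS" => W4c5etcohweilstudent.artinSchreierEndo X p hp h0

theorem isLocallySurjective_AS : Sheaf.IsLocallySurjective AS := by
  refine ⟨fun {U} s => covering_of_points _ fun x => ?_⟩
  haveI : Etale U.hom := U.prop
  obtain ⟨W, hW, hxW, -⟩ := exists_isAffineOpen_mem_and_subset (x := x) (U := (⊤ : U.left.Opens)) trivial
  haveI : IsAffine (W : Scheme.{u}) := hW
  let T : Scheme.{u} := W
  let a : Γ(T, ⊤) := W.ι.appTop (show ULift.{u + 1} Γ(U.left, ⊤) from s).down
  have hT : (p : Γ(T, ⊤)) = 0 := by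
    have := congrArg (W.ι.appTop.hom.comp U.hom.appTop.hom) h0
    simpa using this
  obtain ⟨B, _, _, hB, hsurj, b, hb⟩ := exists_etale_artinSchreier p hp hT a
  let g₀ : Spec (CommRingCat.of B) ⟶ T := Spec.map (CommRingCat.ofHom (algebraMap Γ(T, ⊤) B)) ≫ T.isoSpec.inv
  haveI : Etale (Spec.map (CommRingCat.ofHom (algebraMap Γ(T, ⊤) B))) :=
    (HasRingHomProperty.Spec_iff (P := @Etale)).2 (RingHom.etale_algebraMap.2 hB)
  haveI : Etale g₀ := inferInstanceAs (Etale (_ ≫ _))
  let e : Spec (CommRingCat.of B) ⟶ U.left := g₀ ≫ W.ι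
  let V : X.Etale := Scheme.Etale.mk (e ≫ U.hom)
  let g : V ⟶ U := MorphismProperty.Over.homMk e rfl
  obtain ⟨q, hq⟩ := hsurj (T.isoSpec.hom ⟨x, hxW⟩)
  have hqx : g.left q = x := by
    show (Spec.map (CommRingCat.ofHom (algebraMap Γ(T, ⊤) B)) ≫ T.isoSpec.inv ≫ W.ι) q = x
    rw [Scheme.Hom.comp_apply, Scheme.Hom.comp_apply,
      show Spec.map (CommRingCat.ofHom (algebraMap Γ(T, ⊤) B)) q = T.isoSpec.hom ⟨x, hxW⟩ from hq]
    exact congrArg W.ι ((Scheme.Hom.comp_apply T.isoSpec.hom T.isoSpec.inv _).symm.trans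
      (congrArg (fun m : T ⟶ T => m ⟨x, hxW⟩) T.isoSpec.hom_inv_id))
  refine ⟨V, g, q, ⟨(⟨(Scheme.ΓSpecIso (CommRingCat.of B)).inv b⟩ : ULift.{u + 1} Γ(Spec (CommRingCat.of B), ⊤)), ?_⟩, hqx⟩
  apply ULift.ext
  show (Scheme.ΓSpecIso (CommRingCat.of B)).inv b ^ p - (Scheme.ΓSpecIso (CommRingCat.of B)).inv b =
    (g₀ ≫ W.ι).appTop (show ULift.{u + 1} Γ(U.left, ⊤) from s).down
  rw [← map_pow, ← map_sub, hb, Scheme.Hom.comp_appTop, ConcreteCategory.comp_apply]
  show _ = (Spec.map (CommRingCat.ofHom (algebraMap Γ(T, ⊤) B)) ≫ T.isoSpec.inv).appTop a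
  rw [Scheme.Hom.comp_appTop, ConcreteCategory.comp_apply]
  have e1 : T.isoSpec.inv.appTop a = (Scheme.ΓSpecIso Γ(T, ⊤)).inv a := by
    apply (ConcreteCategory.bijective_of_isIso (Scheme.ΓSpecIso Γ(T, ⊤)).hom).1
    rw [Iso.inv_hom_id_apply, ← Scheme.toSpecΓ_appTop, ← ConcreteCategory.comp_apply, ← Scheme.Hom.comp_appTop,
      show T.toSpecΓ = T.isoSpec.hom from rfl, Iso.hom_inv_id]
    rfl
  refine Eq.trans ?_ (congrArg _ e1).symm
  exact ConcreteCategory.congr_hom (Scheme.ΓSpecIso_inv_naturality (CommRingCat.ofHom (algebraMap Γ(T, ⊤) B))) a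

/-- The constant presheaf `ℤ/p` mapping to `G_a`. -/
noncomputable def asConstPre [CharP Γ(X, ⊤) p] :
    (Functor.const X.Etaleᵒᵖ).obj (AddCommGrpCat.of (ULift.{u + 1} (ZMod p))) ⟶ (EtCoh.Ga X).obj where
  app U := AddCommGrpCat.ofHom (X := ULift.{u + 1} (ZMod p)) (Y := ULift.{u + 1} Γ(U.unop.left, ⊤))
    ((AddEquiv.ulift.symm.toAddMonoidHom.comp
      (U.unop.hom.appTop.hom.toAddMonoidHom.comp (ZMod.castHom (dvd_refl p) Γ(X, ⊤)).toAddMonoidHom)).comp
        AddEquiv.ulift.toAddMonoidHom)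
  naturality {U V} g := by
    ext ⟨n⟩
    apply ULift.ext
    have hw : g.unop.left ≫ U.unop.hom = V.unop.hom := Over.w g.unop.hom
    show V.unop.hom.appTop (ZMod.castHom (dvd_refl p) Γ(X, ⊤) n) =
      g.unop.left.appTop (U.unop.hom.appTop (ZMod.castHom (dvd_refl p) Γ(X, ⊤) n))
    rw [← hw, Scheme.Hom.comp_appTop]
    rfl

variable [CharP Γ(X, ⊤) p]

theorem asConstPre_down (U : X.Etale) (n : ℕ) :
    ((asConstPre (X := X) p).app (op U) ⟨(n : ZMod p)⟩ : ULift.{u + 1} Γ(U.left, ⊤)).down = (n : Γ(U.left, ⊤)) := by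
  show U.hom.appTop (ZMod.castHom (dvd_refl p) Γ(X, ⊤) n) = n
  rw [map_natCast, map_natCast]

/-- The map from constant sheaf `ℤ/p` to `G_a`. -/
noncomputable def asConst : EtCoh.const X (ZMod p) ⟶ EtCoh.Ga X :=
  ((sheafificationAdjunction X.smallEtaleTopology AddCommGrpCat.{u + 1}).homEquiv _ _).symm (asConstPre p)

theorem toSheafify_asConst : toSheafify X.smallEtaleTopology _ ≫ (asConst (X := X) p).hom = asConstPre p := by
  have := ((sheafificationAdjunction X.smallEtaleTopology AddCommGrpCat.{u + 1}).homEquiv_unit _ _ (asConst (X := X) p)).symm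
  rw [asConst, Equiv.apply_symm_apply] at this
  exact this

include hp in
theorem isLocallyInjective_asConstPre : Presheaf.IsLocallyInjective X.smallEtaleTopology (asConstPre (X := X) p) := by
  refine ⟨fun {U} x y h => ?_⟩
  obtain ⟨U⟩ := U
  rcases isEmpty_or_nonempty U.left with hU | hU
  · exact X.smallEtaleTopology.superset_covering bot_le (bot_mem_of_isEmpty hU)
  · have hxy : x = y := by
      haveI : Fact p.Prime := ⟨hp⟩
      haveI : Nontrivial Γ(U.left, ⊤) :=
        (U.left.presheaf.germ ⊤ (Classical.arbitrary U.left) trivial).hom.domain_nontrivial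
      let φ : ZMod p →+* Γ(U.left, ⊤) := U.hom.appTop.hom.comp (ZMod.castHom (dvd_refl p) Γ(X, ⊤))
      exact ULift.ext _ _ (φ.injective (congrArg ULift.down h))
    subst hxy
    refine X.smallEtaleTopology.superset_covering (fun _ _ _ => rfl) (X.smallEtaleTopology.top_mem _)

include hp in
theorem mono_asConst : Mono (asConst (X := X) p) := by
  haveI := isLocallyInjective_asConstPre (X := X) p hp
  haveI : Presheaf.IsLocallyInjective X.smallEtaleTopology
      (toSheafify X.smallEtaleTopology _ ≫ (asConst (X := X) p).hom) := by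
    rw [toSheafify_asConst]
    infer_instance
  haveI : Presheaf.IsLocallyInjective X.smallEtaleTopology (asConst (X := X) p).hom :=
    Presheaf.isLocallyInjective_of_isLocallyInjective_of_isLocallySurjective X.smallEtaleTopology (toSheafify X.smallEtaleTopology _) _
  haveI : Sheaf.IsLocallyInjective (asConst (X := X) p) := this
  exact Sheaf.mono_of_isLocallyInjective _

theorem asConst_comp : asConst (X := X) p ≫ AS = 0 := by
  apply ((sheafificationAdjunction X.smallEtaleTopology AddCommGrpCat.{u + 1}).homEquiv _ _).injective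
  rw [Adjunction.homEquiv_naturality_right, asConst, Equiv.apply_symm_apply]
  rw [Adjunction.homEquiv_unit, Functor.map_zero, comp_zero]
  refine NatTrans.ext (funext fun U => ?_)
  ext ⟨n⟩
  apply ULift.ext
  show (U.unop.hom.appTop.hom.comp (ZMod.castHom (dvd_refl p) Γ(X, ⊤))) n ^ p -
    (U.unop.hom.appTop.hom.comp (ZMod.castHom (dvd_refl p) Γ(X, ⊤))) n = 0
  haveI : Fact p.Prime := ⟨hp⟩
  rw [← map_pow, ZMod.pow_card, sub_self]

include hp h0 in
theorem imageSieve_asConst (U : X.Etale) (c : (EtCoh.Ga X).obj.obj (op U)) (hc : (AS).hom.app (op U) c = 0) :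
    Presheaf.imageSieve (asConst (X := X) p).hom (U := U) c ∈ X.smallEtaleTopology U := by
  refine covering_of_points _ fun x => ?_
  let z : Γ(U.left, ⊤) := (show ULift.{u + 1} Γ(U.left, ⊤) from c).down
  have hz : z ^ p = z := sub_eq_zero.1 (congrArg ULift.down hc)
  let γ := U.left.presheaf.germ ⊤ x trivial
  have hst : (p : U.left.presheaf.stalk x) = 0 := by
    have := congrArg γ (W4c5etcohweilstudent.natCast_eq_zero_etale p h0 U)
    rwa [map_natCast, map_zero] at this
  obtain ⟨n, hn⟩ := exists_natCast_eq_of_pow_eq_local p hp hst (z := γ z) (by rw [← map_pow, hz])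
  obtain ⟨W, hxW, iU, iV, hres⟩ := TopCat.Presheaf.germ_eq U.left.presheaf (U := ⊤) (V := ⊤) x trivial trivial z (n : Γ(U.left, ⊤))
    (by rw [map_natCast]; exact hn.symm)
  rw [Subsingleton.elim iV iU, map_natCast] at hres
  refine ⟨openSub U W, openIncl U W, ⟨x, hxW⟩,
    ⟨ConcreteCategory.hom ((toSheafify X.smallEtaleTopology
      ((Functor.const X.Etaleᵒᵖ).obj (AddCommGrpCat.of (ULift.{u + 1} (ZMod p))))).app (op (openSub U W)))
        (⟨(n : ZMod p)⟩ : ULift.{u + 1} (ZMod p)), ?_⟩, rfl⟩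
  refine (ConcreteCategory.congr_hom (NatTrans.congr_app (toSheafify_asConst (X := X) p) (op (openSub U W)))
    (⟨(n : ZMod p)⟩ : ULift.{u + 1} (ZMod p))).trans ?_
  apply ULift.ext
  refine (asConstPre_down p (openSub U W) n).trans ?_
  show (n : Γ(W, ⊤)) = (Scheme.Opens.ι W).appTop z
  have h2 : (Scheme.Opens.ι W).appTop z = (Scheme.Opens.topIso W).inv (U.left.presheaf.map iU.op z) := by
    rw [Scheme.Opens.ι_appTop, Scheme.Opens.topIso_inv, ← ConcreteCategory.comp_apply, ← Functor.map_comp]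
    rfl
  rw [h2, hres, map_natCast]

/-- The Artin–Schreier sequence. -/
theorem shortExact_AS : (ShortComplex.mk (asConst (X := X) p) AS (asConst_comp p hp h0)).ShortExact := by
  haveI := mono_asConst (X := X) p hp
  haveI := isLocallySurjective_AS (X := X) p hp h0
  exact { exact := Groth.Agent.FppfCmp.exact_of_imageSieve_mem.{u + 1} (J := X.smallEtaleTopology)
            (ShortComplex.mk (asConst (X := X) p) AS (asConst_comp p hp h0)) (imageSieve_asConst p hp h0)
          mono_f := inferInstanceAs (Mono (asConst p))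
          epi_g := inferInstanceAs (Epi AS) }

end Groth.Agent.EtVanish
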