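import Groth.Agent.EtVanish.ClassCmp
import Groth.Agent.AdeqShLib.AbSurj
import Groth.Agent.BigSiteLib.Basic
import Groth.Agent.EtPtsLib.Conditions

/-!
# Etale and fppf cohomology of sheaves with exact Čech complexes
-/

set_option autoImplicit false
set_option backward.isDefEq.respectTransparency false
set_option backward.isDefEq.respectTransparency.types false
set_option maxHeartbeats 800000
universe u

namespace Groth.Agent.EtVanish

open CategoryTheory Limits AlgebraicGeometry Opposite Groth.Agent.AdeqShLib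

variable {X : Scheme.{u}} [EtFppf.ACont X]

theorem shortExact_aPush {C : ShortComplex (EtFppf.AbF X)} (hC : C.ShortExact) (h₁ : CechExact C.X₁) :
    (C.map (EtFppf.aPush X)).ShortExact := by
  let G := EtFppf.aPush X
  haveI : PreservesLimitsOfSize.{0, 0} G := (EtFppf.aAdj X).rightAdjoint_preservesLimits
  haveI := hC.mono_f
  haveI : Sheaf.IsLocallySurjective (G.map C.g) := by
    refine ⟨fun {U} s => EtPtsLib.covering_of_points _ fun x => ?_⟩
    haveI : Etale U.hom := U.prop
    obtain ⟨W, hW, hxW, -⟩ := exists_isAffineOpen_mem_and_subset (x := x) (U := (⊤ : U.left.Opens)) trivial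
    let a := hW.fromSpec ≫ U.hom
    let V : X.Etale := Scheme.Etale.mk a
    let g : V ⟶ U := MorphismProperty.Over.homMk hW.fromSpec rfl
    let ι : (Over.map a).obj (topOb Γ(U.left, W)) ≅ (EtFppf.a X).obj V :=
      Over.isoMk (f := (Over.map a).obj (topOb Γ(U.left, W))) (g := (EtFppf.a X).obj V) (Iso.refl _)
        ((Category.id_comp a).trans (Category.id_comp a).symm)
    obtain ⟨t, ht⟩ := ab_surjective_top a hC h₁ (C.X₃.obj.map (ι.hom ≫ (EtFppf.a X).map g).op s)
    obtain ⟨w, hw⟩ : x ∈ Set.range hW.fromSpec := hW.range_fromSpec.symm ▸ hxW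
    refine ⟨V, g, w, ⟨C.X₂.obj.map ι.inv.op t, ?_⟩, hw⟩
    refine (NatTrans.naturality_apply C.g.hom ι.inv.op t).trans ((congrArg _ ht).trans ?_)
    rw [← ConcreteCategory.comp_apply, ← Functor.map_comp, ← op_comp, Iso.inv_hom_id_assoc]
    rfl
  haveI : Epi (G.map C.g) := inferInstance
  haveI : Mono (G.map C.f) := inferInstance
  exact { exact := hC.exact.map_of_mono_of_preservesKernel G inferInstance inferInstance
          mono_f := inferInstanceAs (Mono (G.map C.f))
          epi_g := inferInstanceAs (Epi (G.map C.g)) }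

/-- Etale and fppf cohomology agree on sheaves with exact Čech complexes. -/
theorem nonempty_etH_equiv (F : EtFppf.AbF X) (hF : CechExact F) (q : ℕ) :
    Nonempty (EtCoh.H X ((EtFppf.aPush X).obj F) q ≃+ EtFppf.HF X F q) := by
  haveI : (EtFppf.aPull X).PreservesMonomorphisms :=
    BigSiteLib.preservesMonomorphisms_piEtPull Scheme.fppfPrecoverage X
  haveI : PreservesFiniteLimits (EtFppf.a X) := inferInstanceAs (PreservesFiniteLimits (Scheme.Etale.forget X))
  let T' : IsTerminal (Over.mk (𝟙 X) : Over X) := Over.mkIdTerminal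
  let i : EtFppf.aPush X ⋙ (sheafSections X.smallEtaleTopology AddCommGrpCat.{u + 1}).obj (op (EtCoh.top X)) ≅
      (sheafSections (EtFppf.J X) AddCommGrpCat.{u + 1}).obj (op (Over.mk (𝟙 X))) :=
    NatIso.ofComponents (fun G => G.obj.mapIso (IsTerminal.uniqueUpToIso
      (IsTerminal.isTerminalObj (EtFppf.a X) _ (EtCore.topIsTerminal X)) T').symm.op) (fun φ => (φ.hom.naturality _).symm)
  let c := Adjunction.leftAdjointUniq
    (((constantSheafAdj X.smallEtaleTopology AddCommGrpCat.{u + 1} (EtCore.topIsTerminal X)).comp (EtFppf.aAdj X)).ofNatIsoRight i)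
    (constantSheafAdj (EtFppf.J X) AddCommGrpCat.{u + 1} T')
  exact nonempty_ext_equiv_of_class (EtFppf.aAdj X) (c.app (AddCommGrpCat.of (ULift ℤ))) CechExact
    (fun I _ => cechExact_of_injective I) (fun C hC h₁ h₂ => cechExact_quotient hC h₁ h₂)
    (fun C hC h₁ => shortExact_aPush hC h₁) q F hF

end Groth.Agent.EtVanish
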