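import Groth.Agent.AdeqShLib.AbVanish
import Groth.Agent.AdeqLib.Amitsur
import Groth.Prelude.Def_BigSite2
import Groth.Prelude.Def_EtGm

/-!
# The additive group on the big fppf site
-/

set_option autoImplicit false
set_option backward.isDefEq.respectTransparency false
set_option backward.isDefEq.respectTransparency.types false
set_option maxHeartbeats 800000
universe u

namespace Groth.Agent.EtVanish

open CategoryTheory Limits AlgebraicGeometry Opposite TensorProduct Groth.Agent.AdeqShLib Groth.Agent.AdeqLib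

/-- `G_a` on the big fppf site. -/
noncomputable abbrev gaBig (S : Scheme.{u}) : BigSite.Ab Scheme.fppfPrecoverage S :=
  (BigSite.toAbMod Scheme.fppfPrecoverage S).obj (BigSite.unitMod Scheme.fppfPrecoverage S)

variable {S : Scheme.{u}} (R : CommRingCat.{u}) (a : Spec R ⟶ S) (B : Type u) [CommRing B] [Algebra R B]

/-- Sections of `G_a` on the fibre powers. -/
noncomputable def gaVal (k : ℕ) : Cq R B k ⊗[R] R →+ (abBase R a (gaBig S)).obj (op (qOb R B k)) where
  toFun w := (ULift.up ((Scheme.ΓSpecIso (Cq R B k)).inv (TensorProduct.rid R (Cq R B k) w)) :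
    ULift.{u + 1} Γ(Spec (Cq R B k), ⊤))
  map_zero' := by simp only [map_zero]; rfl
  map_add' x y := by simp only [map_add]; rfl

theorem gaVal_bijective (k : ℕ) : Function.Bijective (gaVal R a B k) :=
  Equiv.ulift.symm.bijective.comp
    ((ConcreteCategory.bijective_of_isIso (Scheme.ΓSpecIso (Cq R B k)).inv).comp
      (TensorProduct.rid R (Cq R B k)).bijective)

theorem gaVal_face (k : ℕ) (i : Fin (k + 1)) (w : Cq R B k ⊗[R] R) :
    (abBase R a (gaBig S)).map (qFaceOb R B k i).op (gaVal R a B k w) =
      gaVal R a B (k + 1) ((qFace R B k i).toLinearMap.rTensor R w) := by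
  have h : TensorProduct.rid R (Cq R B (k + 1)) ((qFace R B k i).toLinearMap.rTensor R w) =
      qFace R B k i (TensorProduct.rid R (Cq R B k) w) := by
    induction w using TensorProduct.induction_on with
    | zero => simp
    | tmul c r => simp
    | add x y hx hy => simp only [map_add, hx, hy]
  have e : (Scheme.ΓSpecIso (Cq R B k)).inv ≫ (Spec.map (qMap R B i.succAbove)).appTop =
      qMap R B i.succAbove ≫ (Scheme.ΓSpecIso (Cq R B (k + 1))).inv :=
    (Scheme.ΓSpecIso_inv_naturality _).symm
  apply ULift.ext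
  show (Spec.map (qMap R B i.succAbove)).appTop ((Scheme.ΓSpecIso (Cq R B k)).inv (TensorProduct.rid R (Cq R B k) w)) =
    (Scheme.ΓSpecIso (Cq R B (k + 1))).inv (TensorProduct.rid R (Cq R B (k + 1)) ((qFace R B k i).toLinearMap.rTensor R w))
  rw [h]
  exact ConcreteCategory.congr_hom e _

theorem gaVal_qD (k : ℕ) (w : Cq R B k ⊗[R] R) :
    gaVal R a B (k + 1) (qD R B R k w) =
      ∑ i : Fin (k + 1), (-1 : ℤ) ^ (i : ℕ) • (abBase R a (gaBig S)).map (qFaceOb R B k i).op (gaVal R a B k w) := by
  simp only [qD, LinearMap.sum_apply, LinearMap.smul_apply, map_sum, map_zsmul, gaVal_face]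

/-- The Čech complexes of `G_a` are exact. -/
theorem cechExact_gaBig (S : Scheme.{u}) : CechExact (gaBig S) := by
  intro R a B _ _ _ k x hx
  obtain ⟨w, rfl⟩ := (gaVal_bijective R a B (k + 2)).2 x
  rw [← gaVal_qD, ← map_zero (gaVal R a B (k + 3))] at hx
  obtain ⟨v, hv⟩ := qD_exact R B R (k + 1) w ((gaVal_bijective R a B (k + 3)).1 hx)
  exact ⟨gaVal R a B (k + 1) v, by rw [← gaVal_qD, hv]⟩

/-- `G_a` on the small etale site is the restriction of `G_a` on the big fppf site. -/
noncomputable def gaRestrIso (S : Scheme.{u}) [EtFppf.ACont S] :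
    (EtFppf.aPush S).obj (gaBig S) ≅ EtCoh.Ga S :=
  (fullyFaithfulSheafToPresheaf _ _).preimageIso (NatIso.ofComponents (fun _ => Iso.refl _) (fun _ => rfl))

end Groth.Agent.EtVanish
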