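import Mathlib.CategoryTheory.Sites.SheafCohomology.Basic
import Mathlib.CategoryTheory.Sites.LocallySurjective
import Mathlib.CategoryTheory.Sites.Abelian
import Mathlib.CategoryTheory.Sites.EpiMono
import Mathlib.Algebra.Homology.DerivedCategory.Ext.ExactSequences
import Mathlib.Algebra.Category.Grp.EpiMono

/-!
# Cohomology vanishes on sites whose terminal object has no non-split coverings
-/

set_option autoImplicit false
set_option backward.isDefEq.respectTransparency false

universe w w' v' u'

namespace Groth.Agent.EtVanish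

open CategoryTheory Limits Opposite Abelian

variable {C : Type u'} [Category.{v'} C] {J : GrothendieckTopology C} [HasSheafify J AddCommGrpCat.{w}]
  [J.HasSheafCompose (forget AddCommGrpCat.{w})] [J.WEqualsLocallyBijective AddCommGrpCat.{w}]

/-- Epimorphisms are surjective on sections over an object without non-split coverings. -/
theorem surjective_of_split {T : C} (hsplit : ∀ R ∈ J T, R.arrows (𝟙 T)) {P Q : Sheaf J AddCommGrpCat.{w}}
    (φ : P ⟶ Q) [Epi φ] : Function.Surjective (φ.hom.app (op T)) := fun q => by
  haveI : Sheaf.IsLocallySurjective φ := (Sheaf.isLocallySurjective_iff_epi' AddCommGrpCat.{w} φ).2 inferInstance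
  obtain ⟨t, ht⟩ := hsplit _ (Presheaf.imageSieve_mem J φ.hom (U := op T) q)
  exact ⟨t, by simpa using ht⟩

variable [HasExt.{w'} (Sheaf J AddCommGrpCat.{w})] [EnoughInjectives (Sheaf J AddCommGrpCat.{w})]

/-- Higher cohomology vanishes when the terminal object has no non-split coverings. -/
theorem subsingleton_H_of_split {T : C} (hT : IsTerminal T) (hsplit : ∀ R ∈ J T, R.arrows (𝟙 T)) :
    ∀ (n : ℕ) (F : Sheaf J AddCommGrpCat.{w}), Subsingleton (Sheaf.H F (n + 1)) := by
  intro n
  induction n with
  | zero =>
    intro F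
    let S := ShortComplex.mk (Injective.ι F) (cokernel.π (Injective.ι F)) (cokernel.condition _)
    have hS : S.ShortExact := { exact := ShortComplex.exact_of_g_is_cokernel S (cokernelIsCokernel _) }
    haveI : Injective S.X₂ := Injective.injective_under F
    refine subsingleton_of_forall_eq 0 fun x => ?_
    obtain ⟨y, rfl⟩ := Ext.covariant_sequence_exact₁ _ hS x (Ext.eq_zero_of_injective _) (zero_add 1)
    obtain ⟨t, ht⟩ := surjective_of_split hsplit S.g (Sheaf.H.equiv₀ S.X₃ hT y)
    have hy : y = Sheaf.H.map S.g 0 ((Sheaf.H.equiv₀ S.X₂ hT).symm t) := by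
      rw [Sheaf.H.equiv₀_symm_naturality]
      exact ((Sheaf.H.equiv₀ S.X₃ hT).eq_symm_apply.2 ht.symm)
    rw [hy, Sheaf.H.map_apply, Ext.comp_assoc_of_second_deg_zero, hS.comp_extClass, Ext.comp_zero]
  | succ n ih =>
    intro F
    let S := ShortComplex.mk (Injective.ι F) (cokernel.π (Injective.ι F)) (cokernel.condition _)
    have hS : S.ShortExact := { exact := ShortComplex.exact_of_g_is_cokernel S (cokernelIsCokernel _) }
    haveI : Injective S.X₂ := Injective.injective_under F
    refine subsingleton_of_forall_eq 0 fun x => ?_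
    obtain ⟨y, rfl⟩ := Ext.covariant_sequence_exact₁ _ hS x (Ext.eq_zero_of_injective _) rfl
    rw [(ih S.X₃).elim y 0, Ext.zero_comp]

end Groth.Agent.EtVanish
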