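import Mathlib.Topology.Sheaves.Points
import Mathlib.CategoryTheory.Sites.Point.Skyscraper
import Mathlib.CategoryTheory.Sites.SheafCohomology.Basic
import Mathlib.CategoryTheory.Sites.Abelian
import Mathlib.CategoryTheory.Sites.EpiMono
import Mathlib.CategoryTheory.Abelian.GrothendieckCategory.HasExt
import Mathlib.CategoryTheory.Abelian.GrothendieckAxioms.Sheaf
import Mathlib.CategoryTheory.Abelian.GrothendieckCategory.EnoughInjectives
import Mathlib.Algebra.Category.Grp.Ulift
import Mathlib.Algebra.Category.Grp.Injective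
import Mathlib.Algebra.Category.Grp.EnoughInjectives
import Mathlib.Algebra.Category.Grp.FilteredColimits
import Mathlib.Algebra.Category.Grp.AB
import Mathlib.Algebra.Homology.DerivedCategory.Ext.ExactSequences
import Groth.Agent.EtVanish.Split

/-!
# Sheaf cohomology on a topological space does not depend on the universe of the coefficients
-/

set_option autoImplicit false
set_option backward.isDefEq.respectTransparency false
set_option backward.isDefEq.respectTransparency.types false
set_option maxHeartbeats 800000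
set_option synthInstance.maxHeartbeats 40000
universe u

namespace Groth.Agent.EtVanish

open CategoryTheory Limits Opposite TopologicalSpace Abelian GrothendieckTopology

variable {X : Type u} [TopologicalSpace X]


instance : PreservesFilteredColimitsOfSize.{u, u} (forget AddCommGrpCat.{u + 1}) :=
  preservesFilteredColimitsOfSize_shrink.{u, u + 1, u, u + 1} _

instance : HasColimitsOfSize.{u, u} AddCommGrpCat.{u + 1} := hasColimitsOfSizeShrink.{u, u, u + 1, u + 1} _

/-- Injective groups stay injective in a larger universe. -/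
theorem injective_ulift (M : AddCommGrpCat.{u}) [Injective M] :
    Injective (AddCommGrpCat.uliftFunctor.{u + 1, u}.obj M) := by
  have hdiv : ∀ (n : ℤ), n ≠ 0 → ∀ m : M, ∃ y : M, n • y = m := fun n hn m => by
    let g : AddCommGrpCat.of (ULift.{u} ℤ) ⟶ AddCommGrpCat.of (ULift.{u} ℤ) :=
      AddCommGrpCat.ofHom (n • AddMonoidHom.id (ULift.{u} ℤ))
    haveI : Mono g := (AddCommGrpCat.mono_iff_injective g).2 fun a b e => by
      apply ULift.ext
      have : n • a.down = n • b.down := congrArg ULift.down e
      simpa [hn] using this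
    let f : AddCommGrpCat.of (ULift.{u} ℤ) ⟶ M :=
      AddCommGrpCat.ofHom ((zmultiplesHom M m).comp AddEquiv.ulift.toAddMonoidHom)
    refine ⟨Injective.factorThru f g (ULift.up 1), ?_⟩
    have h := ConcreteCategory.congr_hom (Injective.comp_factorThru f g) (ULift.up 1 : ULift.{u} ℤ)
    refine (map_zsmul (Injective.factorThru f g).hom n (ULift.up 1 : ULift.{u} ℤ)).symm.trans (h.trans ?_)
    show (1 : ℤ) • m = m
    exact one_smul ℤ m
  letI : DivisibleBy (ULift.{u + 1} M) ℤ := divisibleByOfSMulRightSurj (ULift.{u + 1} M) ℤ fun {n} hn x => by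
    obtain ⟨y, hy⟩ := hdiv n hn x.down
    exact ⟨ULift.up y, ULift.ext _ _ hy⟩
  exact AddCommGrpCat.injective_of_divisible (ULift.{u + 1} M)

/-- The change of universe on sheaves. -/
noncomputable abbrev liftSh : Sheaf (Opens.grothendieckTopology X) AddCommGrpCat.{u} ⥤ Sheaf (Opens.grothendieckTopology X) AddCommGrpCat.{u + 1} :=
  sheafCompose (Opens.grothendieckTopology X) AddCommGrpCat.uliftFunctor.{u + 1, u}

instance : PreservesLimitsOfSize.{u, u} (liftSh (X := X)) := by
  haveI : PreservesLimitsOfSize.{u, u} (liftSh (X := X) ⋙ sheafToPresheaf (Opens.grothendieckTopology X) AddCommGrpCat.{u + 1}) :=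
    inferInstanceAs (PreservesLimitsOfSize.{u, u} (sheafToPresheaf (Opens.grothendieckTopology X) AddCommGrpCat.{u} ⋙
      (Functor.whiskeringRight (Opens X)ᵒᵖ _ _).obj AddCommGrpCat.uliftFunctor.{u + 1, u}))
  exact preservesLimits_of_reflects_of_preserves (liftSh (X := X)) (sheafToPresheaf (Opens.grothendieckTopology X) AddCommGrpCat.{u + 1})

instance : (liftSh (X := X)).Additive where

variable (x : X)

theorem map'_piComparison {α β : Type u} (ψ : β → α) (M : AddCommGrpCat.{u}) :
    AddCommGrpCat.uliftFunctor.{u + 1, u}.map (Pi.map' ψ (fun _ => 𝟙 M) : (∏ᶜ fun _ : α => M) ⟶ ∏ᶜ fun _ : β => M) ≫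
        piComparison AddCommGrpCat.uliftFunctor.{u + 1, u} _ =
      piComparison AddCommGrpCat.uliftFunctor.{u + 1, u} _ ≫ Pi.map' ψ (fun _ => 𝟙 _) := by
  apply Pi.hom_ext
  intro y
  rw [Category.assoc, Category.assoc, piComparison_comp_π, Pi.map'_comp_π, Category.comp_id, piComparison_comp_π,
    ← Functor.map_comp, Pi.map'_comp_π, Category.comp_id]

/-- The lift of a skyscraper is the skyscraper of the lift, on presheaves. -/
noncomputable def liftSkyPresheafIso (M : AddCommGrpCat.{u}) :
    (Opens.pointGrothendieckTopology x).skyscraperPresheaf M ⋙ AddCommGrpCat.uliftFunctor.{u + 1, u} ≅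
      (Opens.pointGrothendieckTopology x).skyscraperPresheaf (AddCommGrpCat.uliftFunctor.{u + 1, u}.obj M) :=
  NatIso.ofComponents (fun U => PreservesProduct.iso AddCommGrpCat.uliftFunctor.{u + 1, u}
      (fun _ : (Opens.pointGrothendieckTopology x).fiber.obj U.unop => M)) (fun {U V} f => map'_piComparison _ M)

/-- The lift of a skyscraper is the skyscraper of the lift. -/
noncomputable def liftSkyIso (M : AddCommGrpCat.{u}) :
    (liftSh (X := X)).obj ((Opens.pointGrothendieckTopology x).skyscraperSheaf M) ≅
      (Opens.pointGrothendieckTopology x).skyscraperSheaf (AddCommGrpCat.uliftFunctor.{u + 1, u}.obj M) :=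
  (fullyFaithfulSheafToPresheaf _ _).preimageIso (liftSkyPresheafIso x M)

/-- Injective sheaves stay injective in a larger universe. -/
theorem injective_liftSh (I : Sheaf (Opens.grothendieckTopology X) AddCommGrpCat.{u}) [Injective I] : Injective ((liftSh (X := X)).obj I) := by
  let Φ := fun x : X => Opens.pointGrothendieckTopology x
  let D := fun x : X => Injective.under ((Φ x).sheafFiber.obj I)
  let P := fun x : X => (Φ x).skyscraperSheaf (D x)
  let ι : I ⟶ ∏ᶜ P := Pi.lift fun x => ((Φ x).skyscraperSheafAdjunction.homEquiv I (D x)) (Injective.ι _)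
  haveI : Mono ι := by
    refine (((Opens.isConservativeFamilyOfPoints_pointsGrothendieckTopology X).jointlyReflectMonomorphisms
      AddCommGrpCat.{u}).mono_iff ι).2 ?_
    rintro ⟨Ψ, hΨ⟩
    obtain ⟨x⟩ := hΨ
    have h : (Φ x).sheafFiber.map ι ≫ ((Φ x).skyscraperSheafAdjunction.homEquiv (∏ᶜ P) (D x)).symm (Pi.π P x) =
        Injective.ι _ := by
      rw [← Adjunction.homEquiv_naturality_left_symm, Pi.lift_π, Equiv.symm_apply_apply]
    haveI : Mono ((Φ x).sheafFiber.map ι ≫
        ((Φ x).skyscraperSheafAdjunction.homEquiv (∏ᶜ P) (D x)).symm (Pi.π P x)) := by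
      rw [h]; infer_instance
    exact mono_of_mono _ (((Φ x).skyscraperSheafAdjunction.homEquiv (∏ᶜ P) (D x)).symm (Pi.π P x))
  haveI : ∀ x, Injective ((liftSh (X := X)).obj (P x)) := fun x => by
    haveI := injective_ulift (D x)
    haveI : Injective ((Φ x).skyscraperSheaf (AddCommGrpCat.uliftFunctor.{u + 1, u}.obj (D x))) := by
      haveI : AB5OfSize.{u, u} AddCommGrpCat.{u + 1} := AB5OfSize_shrink.{u, u, u + 1, u + 1} _
      haveI : (Φ x).sheafFiber (A := AddCommGrpCat.{u + 1}) |>.PreservesMonomorphisms :=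
        preservesMonomorphisms_of_preservesLimitsOfShape _
      exact Injective.injective_of_adjoint (Φ x).skyscraperSheafAdjunction _
    exact Injective.of_iso (liftSkyIso x (D x)).symm inferInstance
  haveI : Injective ((liftSh (X := X)).obj (∏ᶜ P)) :=
    Injective.of_iso (PreservesProduct.iso (liftSh (X := X)) P).symm inferInstance
  let r : Retract ((liftSh (X := X)).obj I) ((liftSh (X := X)).obj (∏ᶜ P)) :=
    (Retract.mk ι (Injective.factorThru (𝟙 I) ι) (Injective.comp_factorThru _ _)).map (liftSh (X := X))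
  refine ⟨fun {A B} g f _ => ⟨Injective.factorThru (g ≫ r.i) f ≫ r.r, ?_⟩⟩
  rw [← Category.assoc, Injective.comp_factorThru, Category.assoc, r.retract, Category.comp_id]

theorem shortExact_liftSh {C : ShortComplex (Sheaf (Opens.grothendieckTopology X) AddCommGrpCat.{u})} (hC : C.ShortExact) :
    (C.map (liftSh (X := X))).ShortExact := by
  let G := liftSh (X := X)
  haveI := hC.mono_f
  haveI := hC.epi_g
  haveI : Sheaf.IsLocallySurjective (G.map C.g) := by
    haveI : Sheaf.IsLocallySurjective C.g :=
      (Sheaf.isLocallySurjective_iff_epi' AddCommGrpCat.{u} C.g).2 inferInstance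
    refine ⟨fun {U} s => (Opens.grothendieckTopology X).superset_covering ?_ (Presheaf.imageSieve_mem (Opens.grothendieckTopology X) C.g.hom (U := op U)
      (show ULift.{u + 1} (C.X₃.obj.obj (op U)) from s).down)⟩
    rintro V k ⟨t, ht⟩
    exact ⟨(ULift.up t : ULift.{u + 1} (C.X₂.obj.obj (op V))), ULift.ext _ _ ht⟩
  haveI : Epi (G.map C.g) := inferInstance
  haveI : PreservesFiniteLimits G := PreservesLimitsOfSize.preservesFiniteLimits _
  haveI : Mono (G.map C.f) := inferInstance
  exact { exact := hC.exact.map_of_mono_of_preservesKernel G inferInstance inferInstance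
          mono_f := inferInstanceAs (Mono (G.map C.f))
          epi_g := inferInstanceAs (Epi (G.map C.g)) }

variable [HasExt.{u} (Sheaf (Opens.grothendieckTopology X) AddCommGrpCat.{u})] [HasExt.{u + 1} (Sheaf (Opens.grothendieckTopology X) AddCommGrpCat.{u + 1})]
  [EnoughInjectives (Sheaf (Opens.grothendieckTopology X) AddCommGrpCat.{u})]

/-- Global sections. -/
noncomputable def liftH0 (F : Sheaf (Opens.grothendieckTopology X) AddCommGrpCat.{u}) :
    Sheaf.H.{u + 1} ((liftSh (X := X)).obj F) 0 ≃+ Sheaf.H.{u} F 0 :=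
  (Sheaf.H.equiv₀.{u + 1} _ isTerminalTop).trans
    ((AddEquiv.ulift : ULift.{u + 1} (F.obj.obj (op ⊤)) ≃+ F.obj.obj (op ⊤)).trans (Sheaf.H.equiv₀ F isTerminalTop).symm)

theorem liftH0_naturality {F G : Sheaf (Opens.grothendieckTopology X) AddCommGrpCat.{u}} (g : F ⟶ G) (y : Sheaf.H.{u + 1} ((liftSh (X := X)).obj F) 0) :
    liftH0 G (Sheaf.H.map ((liftSh (X := X)).map g) 0 y) = Sheaf.H.map g 0 (liftH0 F y) := by
  show (Sheaf.H.equiv₀ G isTerminalTop).symm
      (show ULift.{u + 1} (G.obj.obj (op ⊤)) from Sheaf.H.equiv₀ _ isTerminalTop (Sheaf.H.map ((liftSh (X := X)).map g) 0 y)).down =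
    Sheaf.H.map g 0 ((Sheaf.H.equiv₀ F isTerminalTop).symm
      (show ULift.{u + 1} (F.obj.obj (op ⊤)) from Sheaf.H.equiv₀ _ isTerminalTop y).down)
  rw [← Sheaf.H.equiv₀_naturality, Sheaf.H.equiv₀_symm_naturality]
  rfl

/-- Sheaf cohomology in two universes. -/
theorem nonempty_H_lift_equiv : ∀ (q : ℕ) (F : Sheaf (Opens.grothendieckTopology X) AddCommGrpCat.{u}),
    Nonempty (Sheaf.H.{u + 1} ((liftSh (X := X)).obj F) q ≃+ Sheaf.H.{u} F q) := by
  intro q
  induction q with
  | zero => exact fun F => ⟨liftH0 F⟩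
  | succ q ih =>
    intro F
    let C := ShortComplex.mk (Injective.ι F) (cokernel.π (Injective.ι F)) (cokernel.condition _)
    have hC : C.ShortExact := { exact := ShortComplex.exact_of_g_is_cokernel C (cokernelIsCokernel _) }
    haveI : Injective C.X₂ := Injective.injective_under F
    have hL := shortExact_liftSh hC
    haveI : Injective (C.map (liftSh (X := X))).X₂ := injective_liftSh C.X₂
    let δ := hC.extClass.postcomp ((constantSheaf (Opens.grothendieckTopology X) AddCommGrpCat.{u}).obj (AddCommGrpCat.of (ULift.{u} ℤ))) (rfl : q + 1 = q + 1)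
    let δ' := hL.extClass.postcomp ((constantSheaf (Opens.grothendieckTopology X) AddCommGrpCat.{u + 1}).obj (AddCommGrpCat.of (ULift.{u + 1} ℤ))) (rfl : q + 1 = q + 1)
    have hs : Function.Surjective δ := fun x => by
      obtain ⟨y, hy⟩ := Ext.covariant_sequence_exact₁ _ hC x (Ext.eq_zero_of_injective _) rfl
      exact ⟨y, hy⟩
    have hs' : Function.Surjective δ' := fun x => by
      obtain ⟨y, hy⟩ := Ext.covariant_sequence_exact₁ _ hL x (Ext.eq_zero_of_injective _) rfl
      exact ⟨y, hy⟩
    cases q with
    | zero =>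
      have hker : δ'.ker.map (liftH0 C.X₃).toAddMonoidHom = δ.ker := by
        ext x
        constructor
        · rintro ⟨x', hx', rfl⟩
          obtain ⟨y, hy⟩ := Ext.covariant_sequence_exact₃ _ hL x' rfl hx'
          have e := liftH0_naturality C.g y
          rw [show Sheaf.H.map ((liftSh (X := X)).map C.g) 0 y = x' from (Sheaf.H.map_apply _ _).trans hy] at e
          show δ (liftH0 C.X₃ x') = 0
          rw [e, Sheaf.H.map_apply]
          show ((liftH0 C.X₂ y).comp (Ext.mk₀ C.g) (add_zero 0)).comp hC.extClass rfl = 0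
          rw [Ext.comp_assoc_of_second_deg_zero, hC.comp_extClass, Ext.comp_zero]
        · intro hx
          obtain ⟨y, hy⟩ := Ext.covariant_sequence_exact₃ _ hC x rfl hx
          let y' := (liftH0 C.X₂).symm y
          refine ⟨Sheaf.H.map ((liftSh (X := X)).map C.g) 0 y', ?_, ?_⟩
          · rw [Sheaf.H.map_apply]
            show (y'.comp (Ext.mk₀ (C.map (liftSh (X := X))).g) (add_zero 0)).comp hL.extClass rfl = 0
            rw [Ext.comp_assoc_of_second_deg_zero, hL.comp_extClass, Ext.comp_zero]
          · show liftH0 C.X₃ _ = x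
            rw [liftH0_naturality, AddEquiv.apply_symm_apply, Sheaf.H.map_apply]
            exact hy
      exact ⟨(QuotientAddGroup.quotientKerEquivOfSurjective δ' hs').symm.trans
        ((QuotientAddGroup.congr _ _ (liftH0 C.X₃) hker).trans (QuotientAddGroup.quotientKerEquivOfSurjective δ hs))⟩
    | succ q =>
      obtain ⟨e⟩ := ih C.X₃
      have hi : Function.Injective δ := (injective_iff_map_eq_zero _).2 fun x hx => by
        obtain ⟨y, hy⟩ := Ext.covariant_sequence_exact₃ _ hC x rfl hx
        rw [← hy, Ext.eq_zero_of_injective y, Ext.zero_comp]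
      have hi' : Function.Injective δ' := (injective_iff_map_eq_zero _).2 fun x hx => by
        obtain ⟨y, hy⟩ := Ext.covariant_sequence_exact₃ _ hL x rfl hx
        rw [← hy, Ext.eq_zero_of_injective y, Ext.zero_comp]
      exact ⟨(AddEquiv.ofBijective δ' ⟨hi', hs'⟩).symm.trans (e.trans (AddEquiv.ofBijective δ ⟨hi, hs⟩))⟩

end Groth.Agent.EtVanish
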