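import Mathlib.RingTheory.Etale.StandardEtale
import Mathlib.RingTheory.RingHom.Etale
import Mathlib.FieldTheory.Finite.Basic
import Mathlib.FieldTheory.IsAlgClosed.AlgebraicClosure
import Mathlib.RingTheory.LocalRing.ResidueField.Ideal
import Mathlib.RingTheory.Spectrum.Prime.Basic

/-!
# Artin–Schreier algebras
-/

set_option autoImplicit false

universe u

namespace Groth.Agent.EtVanish

open Polynomial

variable {A : Type u} [CommRing A] (p : ℕ) (hp : p.Prime) (h0 : (p : A) = 0)

include hp h0 in
/-- Artin–Schreier equations have solutions in etale algebras with surjective spectrum. -/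
theorem exists_etale_artinSchreier (a : A) :
    ∃ (B : Type u) (_ : CommRing B) (_ : Algebra A B),
      Algebra.Etale A B ∧ Function.Surjective (PrimeSpectrum.comap (algebraMap A B)) ∧
        ∃ b : B, b ^ p - b = algebraMap A B a := by
  have hd : derivative (X ^ p - (X + C a)) = -1 := by
    simp [derivative_X_pow, h0]
  let P : StandardEtalePair A :=
    { f := X ^ p - (X + C a)
      monic_f := monic_X_pow_sub (lt_of_le_of_lt (degree_add_le_of_degree_le degree_X_le
        (le_trans degree_C_le zero_le_one)) (by exact_mod_cast hp.one_lt))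
      g := 1
      cond := ⟨-1, 0, 0, by rw [hd]; simp⟩ }
  refine ⟨P.Ring, inferInstance, inferInstance, inferInstance, fun q => ?_, P.X, ?_⟩
  · let K := AlgebraicClosure q.asIdeal.ResidueField
    let φ : A →+* K := (algebraMap q.asIdeal.ResidueField K).comp (algebraMap A q.asIdeal.ResidueField)
    letI : Algebra A K := φ.toAlgebra
    have hdeg : (P.f.map φ).degree ≠ 0 := by
      rw [P.monic_f.degree_map]
      have : (X ^ p - (X + C a) : A[X]).degree = p := by
        haveI : Nontrivial A := φ.domain_nontrivial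
        rw [degree_sub_eq_left_of_degree_lt] <;> rw [degree_X_pow]
        exact lt_of_le_of_lt (degree_add_le_of_degree_le degree_X_le (le_trans degree_C_le zero_le_one))
          (by exact_mod_cast hp.one_lt)
      show (X ^ p - (X + C a) : A[X]).degree ≠ 0
      rw [this]
      exact_mod_cast hp.ne_zero
    obtain ⟨y, hy⟩ := IsAlgClosed.exists_root (P.f.map φ) hdeg
    have hm : P.HasMap y := ⟨by rwa [aeval_def, ← eval_map], by simp [P]⟩
    refine ⟨⟨RingHom.ker (P.lift y hm).toRingHom, RingHom.ker_isPrime _⟩, PrimeSpectrum.ext ?_⟩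
    show Ideal.comap (algebraMap A P.Ring) (RingHom.ker (P.lift y hm).toRingHom) = q.asIdeal
    rw [RingHom.comap_ker, show (P.lift y hm).toRingHom.comp (algebraMap A P.Ring) = φ from (P.lift y hm).comp_algebraMap,
      RingHom.ker_comp_of_injective _ (RingHom.injective _), Ideal.ker_algebraMap_residueField]
  · have h := (StandardEtalePair.hasMap_X (P := P)).1
    simp only [P, map_sub, map_add, map_pow, aeval_X, aeval_C] at h
    rw [sub_eq_zero] at h
    rw [h]
    exact add_sub_cancel_left _ _

include hp in
/-- The solutions of `z ^ p = z` in a field of characteristic `p`. -/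
theorem exists_natCast_eq_of_pow_eq {K : Type u} [Field K] (hK : (p : K) = 0) {z : K} (hz : z ^ p = z) :
    ∃ n : ℕ, (n : K) = z := by
  haveI : Fact p.Prime := ⟨hp⟩
  haveI : CharP K p := (CharP.ringChar_of_prime_eq_zero hp hK) ▸ ringChar.charP K
  have hb := (Subfield.mem_bot_iff_pow_eq_self K p).2 hz
  rw [← ZMod.fieldRange_castHom_eq_bot p] at hb
  obtain ⟨n, rfl⟩ := hb
  exact ⟨n.val, by rw [← map_natCast (ZMod.castHom (dvd_refl p) K), ZMod.natCast_zmod_val]⟩

include hp h0 in
/-- In a local ring of characteristic `p` the solutions of `z ^ p = z` come from the prime field. -/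
theorem exists_natCast_eq_of_pow_eq_local [IsLocalRing A] {z : A} (hz : z ^ p = z) : ∃ n : ℕ, (n : A) = z := by
  have hK : (p : IsLocalRing.ResidueField A) = 0 := by
    rw [← map_natCast (IsLocalRing.residue A), h0, map_zero]
  obtain ⟨n, hn⟩ := exists_natCast_eq_of_pow_eq p hp hK
    (z := IsLocalRing.residue A z) (by rw [← map_pow, hz])
  refine ⟨n, ?_⟩
  have hn' : (n : A) ^ p = n := by
    haveI : Fact p.Prime := ⟨hp⟩
    haveI : CharP A p := (CharP.ringChar_of_prime_eq_zero hp h0) ▸ ringChar.charP A
    rw [← map_natCast (ZMod.castHom (dvd_refl p) A), ← map_pow, ZMod.pow_card]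
  have hd : (z - n) ^ p = z - n := by
    haveI : Fact p.Prime := ⟨hp⟩
    haveI : CharP A p := (CharP.ringChar_of_prime_eq_zero hp h0) ▸ ringChar.charP A
    rw [sub_pow_char, hz, hn']
  have hmem : z - n ∈ IsLocalRing.maximalIdeal A := by
    rw [← IsLocalRing.residue_eq_zero_iff, map_sub, map_natCast, hn, sub_self]
  obtain ⟨k, rfl⟩ := Nat.exists_eq_add_of_le' hp.two_le
  have h1 : (z - n) * ((z - n) ^ (k + 1) - 1) = 0 := by rw [mul_sub, ← pow_succ', hd, mul_one, sub_self]
  have hu : IsUnit ((z - n) ^ (k + 1) - 1) := by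
    refine (IsLocalRing.notMem_maximalIdeal).1 fun h => ?_
    exact (IsLocalRing.maximalIdeal.isMaximal A).ne_top ((Ideal.eq_top_iff_one _).2 (by
      simpa using Ideal.sub_mem _ (Ideal.pow_mem_of_mem _ hmem (k + 1) (Nat.succ_pos k)) h))
  exact (sub_eq_zero.1 (hu.mul_left_eq_zero.1 h1)).symm

end Groth.Agent.EtVanish
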