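import Groth.Agent.AdeqShLib.ZarCmp
import Groth.Agent.SiteBase.ExtAdjoint
import Groth.Agent.FppfCmp.AcycExt

/-!
# Ext groups through a right adjoint exact on a class of objects
-/

set_option autoImplicit false
set_option backward.isDefEq.respectTransparency false
set_option maxHeartbeats 800000

universe u a b

namespace Groth.Agent.EtVanish

open CategoryTheory Limits Abelian Groth.Agent.AdeqShLib

variable {A : Type a} [Category.{u + 1} A] [Abelian A] [HasExt.{u + 1} A] [EnoughInjectives A]
  {B : Type b} [Category.{u + 1} B] [Abelian B] [HasExt.{u + 1} B] {G : A ⥤ B} {L : B ⥤ A} (adj : L ⊣ G)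
  [G.Additive] [L.PreservesMonomorphisms] {Z : B} {Z' : A} (e : L.obj Z ≅ Z')

/-- The degree zero comparison. -/
noncomputable def extZeroEquiv (X : A) : Ext.{u + 1} Z (G.obj X) 0 ≃+ Ext.{u + 1} Z' X 0 :=
  haveI : L.Additive := adj.left_adjoint_additive
  Ext.addEquiv₀.trans ((AddEquiv.mk'
    { toFun := fun f => e.inv ≫ (adj.homEquiv Z X).symm f
      invFun := fun g => adj.homEquiv Z X (e.hom ≫ g)
      left_inv := fun f => by simp
      right_inv := fun g => by simp }
    (fun f g => by simp [Adjunction.homEquiv_counit, Preadditive.comp_add, Preadditive.add_comp])).trans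
      Ext.addEquiv₀.symm)

theorem extZeroEquiv_mk₀ {X : A} (φ : Z ⟶ G.obj X) :
    extZeroEquiv adj e X (Ext.mk₀ φ) = Ext.mk₀ (e.inv ≫ (adj.homEquiv Z X).symm φ) := by
  show Ext.mk₀ (e.inv ≫ (adj.homEquiv Z X).symm (Ext.homEquiv₀ (Ext.mk₀ φ))) = _
  exact congrArg (fun ψ => Ext.mk₀ (e.inv ≫ (adj.homEquiv Z X).symm ψ)) (Ext.homEquiv₀.apply_symm_apply φ)

theorem extZeroEquiv_naturality {X Y : A} (g : X ⟶ Y) (x : Ext.{u + 1} Z (G.obj X) 0) :
    extZeroEquiv adj e Y (x.comp (Ext.mk₀ (G.map g)) (add_zero 0)) =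
      (extZeroEquiv adj e X x).comp (Ext.mk₀ g) (add_zero 0) := by
  obtain ⟨φ, rfl⟩ := (Ext.mk₀_bijective _ _).2 x
  rw [Ext.mk₀_comp_mk₀, extZeroEquiv_mk₀, extZeroEquiv_mk₀, Ext.mk₀_comp_mk₀,
    Adjunction.homEquiv_naturality_right_symm, Category.assoc]

include adj e in
/-- `Ext(Z, G X) ≅ Ext(Z', X)` for the objects of a class on which `G` is exact. -/
theorem nonempty_ext_equiv_of_class (P : A → Prop) (hinj : ∀ I : A, Injective I → P I)
    (hq : ∀ C : ShortComplex A, C.ShortExact → P C.X₁ → P C.X₂ → P C.X₃)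
    (hse : ∀ C : ShortComplex A, C.ShortExact → P C.X₁ → (C.map G).ShortExact) :
    ∀ (n : ℕ) (X : A), P X → Nonempty (Ext.{u + 1} Z (G.obj X) n ≃+ Ext.{u + 1} Z' X n) := by
  intro n
  induction n with
  | zero => exact fun X _ => ⟨extZeroEquiv adj e X⟩
  | succ q ih =>
    intro X hX
    let C := ShortComplex.mk (Injective.ι X) (cokernel.π (Injective.ι X)) (cokernel.condition _)
    have hC : C.ShortExact := { exact := ShortComplex.exact_of_g_is_cokernel C (cokernelIsCokernel _) }
    haveI : Injective C.X₂ := Injective.injective_under X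
    have hG := hse C hC hX
    haveI : Injective (C.map G).X₂ := Injective.injective_of_adjoint adj C.X₂
    let δ := connH Z' hC q
    let δ' := connH Z hG q
    cases q with
    | zero =>
      let e₀ := extZeroEquiv adj e C.X₃
      have hker : δ'.ker.map e₀.toAddMonoidHom = δ.ker := by
        rw [connH_zero_ker, connH_zero_ker]
        ext x
        refine ⟨?_, ?_⟩
        · rintro ⟨_, ⟨y, rfl⟩, rfl⟩
          exact ⟨extZeroEquiv adj e C.X₂ y, (extZeroEquiv_naturality adj e C.g y).symm⟩
        · rintro ⟨y, rfl⟩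
          exact ⟨_, ⟨(extZeroEquiv adj e C.X₂).symm y, rfl⟩,
            (extZeroEquiv_naturality adj e C.g _).trans
              (congrArg (fun t => Ext.comp t (Ext.mk₀ C.g) (add_zero 0))
                ((extZeroEquiv adj e C.X₂).apply_symm_apply y))⟩
      exact ⟨(QuotientAddGroup.quotientKerEquivOfSurjective δ' (connH_surjective _ hG 0)).symm.trans
        ((QuotientAddGroup.congr _ _ e₀ hker).trans
          (QuotientAddGroup.quotientKerEquivOfSurjective δ (connH_surjective _ hC 0)))⟩
    | succ q =>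
      obtain ⟨e'⟩ := ih C.X₃ (hq C hC hX (hinj _ inferInstance))
      exact ⟨(AddEquiv.ofBijective δ' (connH_bijective _ hG q)).symm.trans
        (e'.trans (AddEquiv.ofBijective δ (connH_bijective _ hC q)))⟩

end Groth.Agent.EtVanish
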